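import Groth.Agent.SN97.Basic
import Groth.Agent.S15941
import Groth.Prelude.Def_Pi1

/-! Normal schemes are seminormal; normalizations and seminormalizations. -/

set_option autoImplicit false
universe u

open CategoryTheory CategoryTheory.Limits AlgebraicGeometry TopologicalSpace
open Groth.Agent.AWN93

namespace Groth.Agent.SN97

theorem seminormal_of_localizations {A : Type u} [CommRing A] [_root_.IsReduced A]
    (h : ∀ (p : Ideal A) [p.IsPrime], HTop.IsSeminormalRing (Localization.AtPrime p)) :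
    HTop.IsSeminormalRing A := by
  refine seminormal_of_exists fun x y hxy => ?_
  -- a global candidate, seen in all localizations
  let B := ∀ p : PrimeSpectrum A, Localization.AtPrime p.asIdeal
  have hr : ∀ p : PrimeSpectrum A, _root_.IsReduced (Localization.AtPrime p.asIdeal) :=
    fun p => isReduced_of_seminormal (h p.asIdeal)
  choose a ha using fun p : PrimeSpectrum A => ((h p.asIdeal)
    (algebraMap A _ x) (algebraMap A _ y) (by rw [← map_pow, ← map_pow, hxy])).exists
  let I : Ideal A :=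
    { carrier := {s | ∃ b : A, ∀ q : PrimeSpectrum A, algebraMap A _ s * a q = algebraMap A _ b}
      add_mem' := fun {s t} ⟨b, hb⟩ ⟨c, hc⟩ => ⟨b + c, fun q => by rw [map_add, map_add, add_mul, hb, hc]⟩
      zero_mem' := ⟨0, fun q => by simp⟩
      smul_mem' := fun r s ⟨b, hb⟩ => ⟨r * b, fun q => by rw [smul_eq_mul, map_mul, map_mul, mul_assoc, hb]⟩ }
  have hI : I = ⊤ := by
    by_contra hne
    obtain ⟨m, hm, hIm⟩ := Ideal.exists_le_maximal I hne
    let p : PrimeSpectrum A := ⟨m, hm.isPrime⟩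
    obtain ⟨⟨b, s⟩, hbs⟩ := IsLocalization.surj p.asIdeal.primeCompl (a p)
    have h2 : algebraMap A (Localization.AtPrime p.asIdeal) (b ^ 2) = algebraMap A _ ((s : A) ^ 2 * x) := by
      rw [map_pow, ← hbs, map_mul, map_pow, (ha p).1]; ring
    have h3 : algebraMap A (Localization.AtPrime p.asIdeal) (b ^ 3) = algebraMap A _ ((s : A) ^ 3 * y) := by
      rw [map_pow, ← hbs, map_mul, map_pow, (ha p).2]; ring
    obtain ⟨c₂, hc₂⟩ := (IsLocalization.eq_iff_exists p.asIdeal.primeCompl _).1 h2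
    obtain ⟨c₃, hc₃⟩ := (IsLocalization.eq_iff_exists p.asIdeal.primeCompl _).1 h3
    have hmem : (s : A) * (c₂ * c₃) ∈ I := ⟨b * (c₂ * c₃), fun q => by
      have := hr q
      refine eq_of_sq_cube ?_ ?_
      · rw [mul_pow, ← (ha q).1, ← map_pow, ← map_mul, ← map_pow]
        exact congrArg _ (by linear_combination ((c₂ : A) * c₃ ^ 2) * hc₂.symm)
      · rw [mul_pow, ← (ha q).2, ← map_pow, ← map_mul, ← map_pow]
        exact congrArg _ (by linear_combination ((c₂ : A) ^ 3 * c₃ ^ 2) * hc₃.symm)⟩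
    exact (p.asIdeal.primeCompl.mul_mem s.2 (p.asIdeal.primeCompl.mul_mem c₂.2 c₃.2)) (hIm hmem)
  obtain ⟨b, hb⟩ := (Ideal.eq_top_iff_one I).1 hI
  have hb' : ∀ q : PrimeSpectrum A, a q = algebraMap A _ b := fun q => by
    have := hb q; rwa [map_one, one_mul] at this
  have hinj : ∀ u v : A, (∀ q : PrimeSpectrum A, algebraMap A (Localization.AtPrime q.asIdeal) u =
      algebraMap A _ v) → u = v := fun u v e => by
    let J : Ideal A :=
      { carrier := {c | c * u = c * v}
        add_mem' := fun {c d} hc hd => by show (c + d) * u = (c + d) * v; rw [add_mul, add_mul, hc, hd]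
        zero_mem' := by show 0 * u = 0 * v; rw [zero_mul, zero_mul]
        smul_mem' := fun r c hc => by show r * c * u = r * c * v; rw [mul_assoc, hc, mul_assoc] }
    by_contra hne
    have hJ : J ≠ ⊤ := fun hJ => hne (by simpa using show (1 : A) * u = 1 * v from (Ideal.eq_top_iff_one J).1 hJ)
    obtain ⟨m, hm, hJm⟩ := Ideal.exists_le_maximal J hJ
    obtain ⟨c, hc⟩ := (IsLocalization.eq_iff_exists m.primeCompl _).1 (e ⟨m, hm.isPrime⟩)
    exact c.2 (hJm hc)
  exact ⟨b, hinj _ _ fun q => by rw [map_pow, ← hb', ← (ha q).1], hinj _ _ fun q => by rw [map_pow, ← hb', ← (ha q).2]⟩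

theorem isSeminormal_of_isNormal {X : Scheme.{u}} (h : Pi1.IsNormalScheme X) : HTop.IsSeminormal X := by
  have : ∀ x : X, _root_.IsReduced (X.presheaf.stalk x) := fun x => by
    have := (h x).1; infer_instance
  have := isReduced_of_isReduced_stalk X
  refine (isSeminormal_iff X).2 fun U => ?_
  refine seminormal_of_localizations fun p hp => ?_
  let x : X := U.2.fromSpec ⟨p, hp⟩
  have hx : x ∈ U.1 := U.2.range_fromSpec.le ⟨_, rfl⟩
  let := X.presheaf.algebra_section_stalk ⟨x, hx⟩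
  have hloc : IsLocalization (U.2.primeIdealOf ⟨x, hx⟩).asIdeal.primeCompl (X.presheaf.stalk x) :=
    U.2.isLocalization_stalk ⟨x, hx⟩
  have hp' : U.2.primeIdealOf ⟨x, hx⟩ = ⟨p, hp⟩ :=
    U.2.fromSpec.isOpenEmbedding.injective (U.2.fromSpec_primeIdealOf ⟨x, hx⟩)
  rw [show (U.2.primeIdealOf ⟨x, hx⟩).asIdeal.primeCompl = p.primeCompl from
    Submonoid.ext fun a => by
      show a ∉ (U.2.primeIdealOf ⟨x, hx⟩).asIdeal ↔ a ∉ p
      rw [congrArg PrimeSpectrum.asIdeal hp']] at hloc
  have := (h x).1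
  have := (h x).2
  exact seminormal_of_ringEquiv
    (IsLocalization.algEquiv p.primeCompl (X.presheaf.stalk x) (Localization.AtPrime p)).toRingEquiv
    (S15941.AuxS41.result (X.presheaf.stalk x))

theorem exists_lift_normal {S Sn X' : Scheme.{u}} (π : Sn ⟶ S) (hn : Pi1.IsNormalScheme Sn)
    (ν : X' ⟶ S) (hν : HTop.IsSeminormalization ν) : ∃ g : Sn ⟶ X', g ≫ ν = π := by
  obtain ⟨s, hs, -⟩ := existsUnique_section (p := pullback.snd ν π)
    (MorphismProperty.pullback_snd _ _ hν.1.1) (rfi_snd ν π hν.1.1 hν.1.2) (isSeminormal_of_isNormal hn)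
  exact ⟨s ≫ pullback.fst ν π, by rw [Category.assoc, pullback.condition, reassoc_of% hs]⟩

theorem dominant_and_finite {S Sn X' : Scheme.{u}} [IsNoetherian S] [AlgebraicGeometry.IsReduced S]
    (π : Sn ⟶ S) [IsIntegralHom π]
    (hbir : ∃ U : S.Opens, Dense (U : Set S) ∧ IsIso (π ∣_ U))
    (ν : X' ⟶ S) (hν : HTop.IsSeminormalization ν) (hX' : HTop.IsSeminormal X')
    (g : Sn ⟶ X') (hg : g ≫ ν = π) :
    (IsSchemeTheoreticallyDominant ν ∧ IsSchemeTheoreticallyDominant g) ∧
      (IsFinite π → IsFinite ν ∧ IsFinite g) := by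
  have := isReduced_of_isSeminormal hX'
  have hh := uh_isHomeomorph hν.1.1
  have hπ : Function.Surjective π := fun x => by
    obtain ⟨U, hU, hiso⟩ := hbir
    have hsub : (U : Set S) ⊆ Set.range π := fun z hz =>
      ⟨(π ⁻¹ᵁ U).ι (inv (π ∣_ U) ⟨z, hz⟩), by
        rw [← Scheme.Hom.comp_apply, ← morphismRestrict_ι, Scheme.Hom.comp_apply, ← Scheme.Hom.comp_apply (inv (π ∣_ U)),
          IsIso.inv_hom_id]; rfl⟩
    have hc : IsClosed (Set.range π) := π.isClosedMap.isClosed_range
    exact Set.range_eq_univ.1 (Set.eq_univ_of_univ_subset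
      (hU.closure_eq ▸ hc.closure_subset_iff.2 hsub)) x
  have : AlgebraicGeometry.Surjective ν := ⟨hh.surjective⟩
  have : AlgebraicGeometry.Surjective g := ⟨fun x' => by
    obtain ⟨z, hz⟩ := hπ (ν x')
    exact ⟨z, hh.injective (by rw [← Scheme.Hom.comp_apply, hg, hz])⟩⟩
  have := uh_isAffineHom hν.1.1
  have hgd : IsSchemeTheoreticallyDominant g := .of_isDominant g
  refine ⟨⟨.of_isDominant ν, hgd⟩, fun hπf => ?_⟩
  have : IsAffineHom (g ≫ ν) := by rw [hg]; infer_instance
  have : IsAffineHom g := IsAffineHom.of_comp g ν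
  have hfin : IsFinite ν := (isFinite_iff ν).2 ⟨inferInstance, fun U hU => by
    have h1 : (π.app U).hom.Finite := hπf.finite_app U hU
    have := IsLocallyNoetherian.component_noetherian (X := S) ⟨U, hU⟩
    let := (ν.app U).hom.toAlgebra
    let := ((g ≫ ν).app U).hom.toAlgebra
    have h2 : Module.Finite Γ(S, U) Γ(Sn, (g ≫ ν) ⁻¹ᵁ U) := by
      have : ((g ≫ ν).app U).hom.Finite := by subst hg; exact h1
      exact this
    let f : Γ(X', ν ⁻¹ᵁ U) →ₐ[Γ(S, U)] Γ(Sn, (g ≫ ν) ⁻¹ᵁ U) :=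
      { (g.app (ν ⁻¹ᵁ U)).hom with commutes' := fun r => rfl }
    exact Module.Finite.of_injective f.toLinearMap (g.app_injective _)⟩
  have : IsFinite (g ≫ ν) := by rw [hg]; exact hπf
  exact ⟨hfin, IsFinite.of_comp g ν⟩

end Groth.Agent.SN97
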