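import Groth.Agent.AWN93.Normalization
import Groth.Agent.UH57.Cl
import Groth.Agent.Cyc90.Envelope

/-! Seminormal schemes and universal homeomorphisms with trivial residue extensions. -/

set_option autoImplicit false
universe u

open CategoryTheory CategoryTheory.Limits AlgebraicGeometry TopologicalSpace
open Groth.Agent.AWN93 Groth.Agent.UH57

namespace Groth.Agent.SN97

variable {X Y Z : Scheme.{u}}

theorem bijective_of_seminormal {B C : Type u} [CommRing B] [CommRing C] [_root_.IsReduced C] {ψ : B →+* C}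
    (hψ : UH ψ) (hr : HTop.ResidueFieldsIso (Spec.map (CommRingCat.ofHom ψ))) (hB : HTop.IsSeminormalRing B) :
    Function.Bijective ψ := by
  algebraize [ψ]
  have htr : TR B C := (residueFieldMap_surjective_iff (A := B) (B := C)).1
    fun x => ((ConcreteCategory.isIso_iff_bijective _).1 (hr x)).2
  obtain ⟨hi, hri, hker⟩ := isUnivHomeo_iff.1 hψ
  have := isReduced_of_seminormal hB
  have hinj : Function.Injective ψ := (RingHom.injective_iff_ker_eq_bot ψ).2
    (le_bot_iff.1 (hker.trans (nilradical_eq_zero B).le))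
  refine ⟨hinj, fun c => ?_⟩
  induction all_of_ri (hp := False) (.inr htr) hi hri c with
  | alg a => exact ⟨a, rfl⟩
  | add _ _ ih1 ih2 =>
    obtain ⟨a, rfl⟩ := ih1; obtain ⟨b, rfl⟩ := ih2; exact ⟨a + b, map_add ψ a b⟩
  | mul _ _ ih1 ih2 =>
    obtain ⟨a, rfl⟩ := ih1; obtain ⟨b, rfl⟩ := ih2; exact ⟨a * b, map_mul ψ a b⟩
  | @sq c _ _ ih1 ih2 =>
    obtain ⟨x, hx⟩ := ih1
    obtain ⟨y, hy⟩ := ih2
    obtain ⟨a, ha1, ha2⟩ := (hB x y (hinj (by rw [map_pow, map_pow, hx, hy]; ring))).exists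
    exact ⟨a, eq_of_sq_cube (by rw [← map_pow, ← ha1, hx]) (by rw [← map_pow, ← ha2, hy])⟩
  | pr _ h => exact h.elim

theorem rfi_of_surjective {π : Y ⟶ X} (h : ∀ y, Function.Surjective (π.residueFieldMap y).hom) :
    HTop.ResidueFieldsIso π :=
  fun y => (ConcreteCategory.isIso_iff_bijective _).2 ⟨RingHom.injective _, h y⟩

theorem rfi_surjective {π : Y ⟶ X} (h : HTop.ResidueFieldsIso π) (y : Y) :
    Function.Surjective (π.residueFieldMap y).hom :=
  ((ConcreteCategory.isIso_iff_bijective _).1 (h y)).2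

theorem rfi_of_preimmersion (π : Y ⟶ X) [IsPreimmersion π] : HTop.ResidueFieldsIso π :=
  rfi_of_surjective (Cyc90.residueFieldMap_surjective π)

theorem rfi_comp {f : Z ⟶ Y} {g : Y ⟶ X} (hf : HTop.ResidueFieldsIso f) (hg : HTop.ResidueFieldsIso g) :
    HTop.ResidueFieldsIso (f ≫ g) := fun z => by
  rw [Scheme.residueFieldMap_comp]
  exact @IsIso.comp_isIso _ _ _ _ _ _ _ (hg (f z)) (hf z)

theorem rfi_snd (π : Y ⟶ X) (g : Z ⟶ X) (hπ : FlatMor.IsUnivHomeo π) (hr : HTop.ResidueFieldsIso π) :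
    HTop.ResidueFieldsIso (pullback.snd π g) := by
  refine rfi_of_surjective fun p => ?_
  have hu : FlatMor.IsUnivHomeo (pullback.snd π g) := MorphismProperty.pullback_snd _ _ hπ
  obtain ⟨p', hp', hs⟩ := Cyc90.isCompletelyDecomposed_snd π g
    (fun x => by
      obtain ⟨y, hy⟩ := (uh_isHomeomorph hπ).surjective x
      exact ⟨y, hy, rfi_surjective hr y⟩) (pullback.snd π g p)
  obtain rfl := (uh_isHomeomorph hu).injective hp'
  exact hs

theorem rfi_fst (π : Y ⟶ X) (g : Z ⟶ X) (hπ : FlatMor.IsUnivHomeo π) (hr : HTop.ResidueFieldsIso π) :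
    HTop.ResidueFieldsIso (pullback.fst g π) := by
  rw [← pullbackSymmetry_hom_comp_snd]
  exact rfi_comp (rfi_of_preimmersion _) (rfi_snd π g hπ hr)

theorem rfi_of_isPullback {P : Scheme.{u}} {fst : P ⟶ Y} {snd : P ⟶ Z} {π : Y ⟶ X} {g : Z ⟶ X}
    (h : IsPullback fst snd π g) (hπ : FlatMor.IsUnivHomeo π) (hr : HTop.ResidueFieldsIso π) :
    HTop.ResidueFieldsIso snd := by
  rw [← h.isoPullback_hom_snd]
  exact rfi_comp (rfi_of_preimmersion _) (rfi_snd π g hπ hr)

theorem rfi_app {p : Z ⟶ X} (hp : FlatMor.IsUnivHomeo p) (hr : HTop.ResidueFieldsIso p) (U : X.affineOpens) :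
    HTop.ResidueFieldsIso (Spec.map (p.app U.1)) := by
  have := uh_isAffineHom hp
  obtain ⟨e⟩ := arrowIso_app (p := p) U
  have h1 : HTop.ResidueFieldsIso (p ∣_ U.1) := rfi_of_isPullback (isPullback_morphismRestrict p U.1).flip hp hr
  have e2 : Spec.map (p.app U.1) = e.inv.left ≫ (p ∣_ U.1) ≫ e.hom.right := by
    have hw := e.hom.w
    simp only [Functor.id_map, Arrow.mk_hom] at hw
    rw [← hw, ← Category.assoc]
    have : e.inv.left ≫ e.hom.left = 𝟙 _ := by rw [← Arrow.comp_left, e.inv_hom_id]; rfl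
    rw [this, Category.id_comp]
  haveI : IsIso e.inv.left := inferInstance
  haveI : IsIso e.hom.right := inferInstance
  rw [e2]
  exact rfi_comp (rfi_of_preimmersion _) (rfi_comp h1 (rfi_of_preimmersion _))

theorem isIso_of_uh_of_sn {p : Z ⟶ X} (hp : FlatMor.IsUnivHomeo p) (hr : HTop.ResidueFieldsIso p)
    (hX : HTop.IsSeminormal X) [AlgebraicGeometry.IsReduced Z] : IsIso p := by
  have := uh_isAffineHom hp
  refine (IsZariskiLocalAtTarget.iff_of_iSup_eq_top (P := MorphismProperty.isomorphisms Scheme.{u})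
    _ (iSup_affineOpens_eq_top X)).2 fun U => ?_
  have hb := bijective_of_seminormal (ψ := (p.app U.1).hom) (uh_app hp U) (rfi_app hp hr U) ((isSeminormal_iff X).1 hX U)
  have : IsIso (p.app U.1) := (ConcreteCategory.isIso_iff_bijective _).2 hb
  exact (MorphismProperty.arrow_mk_iso_iff (MorphismProperty.isomorphisms Scheme.{u})
    (arrowIso_app U).some).2 (show IsIso (Spec.map (p.app U.1)) from inferInstance)

theorem existsUnique_section {p : Z ⟶ X} (hp : FlatMor.IsUnivHomeo p) (hr : HTop.ResidueFieldsIso p)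
    (hX : HTop.IsSeminormal X) : ∃! s : X ⟶ Z, s ≫ p = 𝟙 X := by
  have := isReduced_of_isSeminormal hX
  let I := Scheme.IdealSheafData.vanishingIdeal (X := Z) ⊤
  have := SchBasics.isReduced_vanishingIdeal_subscheme (Y := Z) ⊤
  have hrg : Set.range I.subschemeι = Set.univ :=
    (SchBasics.range_vanishingIdeal_subschemeι (Y := Z) ⊤).trans rfl
  have hι : FlatMor.IsUnivHomeo I.subschemeι :=
    (UH57.isUnivHomeo_iff' _).2 ⟨inferInstance, inferInstance, ⟨Set.range_eq_univ.1 hrg⟩⟩
  obtain ⟨hc1, hc2, hc3⟩ := (UH57.isUnivHomeo_iff' _).1 hp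
  obtain ⟨hd1, hd2, hd3⟩ := (UH57.isUnivHomeo_iff' _).1 hι
  have : IsIso (I.subschemeι ≫ p) :=
    isIso_of_uh_of_sn ((UH57.isUnivHomeo_iff' _).2
      ⟨inferInstance, MorphismProperty.comp_mem _ _ _ hd2 hc2, inferInstance⟩)
      (rfi_comp (rfi_of_preimmersion _) hr) hX
  refine ⟨inv (I.subschemeι ≫ p) ≫ I.subschemeι, by simp [Category.assoc], fun s hs => ?_⟩
  have hker := SchBasics.ker_le_ker_of_range_subset s I.subschemeι (hrg ▸ Set.subset_univ _)
  have h1 := IsClosedImmersion.lift_fac I.subschemeι s hker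
  rw [← h1]
  have : IsClosedImmersion.lift I.subschemeι s hker = inv (I.subschemeι ≫ p) := by
    rw [← cancel_mono (I.subschemeι ≫ p), IsIso.inv_hom_id, ← Category.assoc, h1, hs]
  rw [this]

/-- A universal homeomorphism with trivial residue extensions from a seminormal scheme is a seminormalization. -/
theorem isSeminormalization_of_sn {X' : Scheme.{u}} {ν : X' ⟶ X} (hν : FlatMor.IsUnivHomeo ν)
    (hνr : HTop.ResidueFieldsIso ν) (hX' : HTop.IsSeminormal X') : HTop.IsSeminormalization ν := by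
  refine ⟨⟨hν, hνr⟩, fun Y π hπ hπr => ?_⟩
  obtain ⟨s, hs, hu⟩ := existsUnique_section (p := pullback.fst ν π)
    (MorphismProperty.pullback_fst _ _ hπ) (rfi_fst π ν hπ hπr) hX'
  refine ⟨s ≫ pullback.snd ν π, by
    show (s ≫ pullback.snd ν π) ≫ π = ν
    rw [Category.assoc, ← pullback.condition, ← Category.assoc, hs, Category.id_comp],
    fun h hh => ?_⟩
  have := hu (pullback.lift (𝟙 X') h (by rw [Category.id_comp, hh])) (pullback.lift_fst _ _ _)
  rw [← this, pullback.lift_snd]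

theorem isIso_of_isSeminormalization {X' : Scheme.{u}} {ν : X' ⟶ X} (hν : HTop.IsSeminormalization ν)
    (hX : HTop.IsSeminormal X) : IsIso ν := by
  obtain ⟨s, hs, -⟩ := existsUnique_section hν.1.1 hν.1.2 hX
  refine ⟨s, ?_, hs⟩
  exact (hν.2 X' ν hν.1.1 hν.1.2).unique (by show (ν ≫ s) ≫ ν = ν; rw [Category.assoc, hs, Category.comp_id])
    (Category.id_comp _)

theorem isSeminormal_opens (hX : HTop.IsSeminormal X) (U : X.Opens) : HTop.IsSeminormal (U : Scheme.{u}) :=
  (isSeminormal_iff _).2 fun V => by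
    have h := (isSeminormal_iff X).1 hX ⟨U.ι ''ᵁ V.1, V.2.image_of_isOpenImmersion U.ι⟩
    exact seminormal_of_ringEquiv (U.ι.appIso V.1).commRingCatIsoToRingEquiv h

theorem isSeminormalization_restrict {X' : Scheme.{u}} {ν : X' ⟶ X} (hν : HTop.IsSeminormalization ν)
    (hX' : HTop.IsSeminormal X') (U : X.Opens) : HTop.IsSeminormalization (ν ∣_ U) :=
  isSeminormalization_of_sn (MorphismProperty.of_isPullback (isPullback_morphismRestrict ν U).flip hν.1.1)
    (rfi_of_isPullback (isPullback_morphismRestrict ν U).flip hν.1.1 hν.1.2)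
    (isSeminormal_opens hX' (ν ⁻¹ᵁ U))

end Groth.Agent.SN97
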